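/-!
Data types for the orbit certificate behind the universal property of the third Conway group.
-/

set_option autoImplicit false

namespace CfsgLib.CoThreeUnique.Bound

/-- A table of numbers, indexed by binary expansion with the low bit first. -/
inductive Tbl where
  | leaf (a : Nat)
  | node (l r : Tbl)

/-- The entry of a table at an index. -/
def Tbl.get : Tbl → Nat → Nat
  | .leaf a, _ => a
  | .node l r, i => if i % 2 == 0 then l.get (i / 2) else r.get (i / 2)

/-- All entries are less than a bound. -/
def Tbl.allLt : Tbl → Nat → Bool
  | .leaf a, b => Nat.blt a b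
  | .node l r, b => l.allLt b && r.allLt b

theorem Tbl.get_lt {t : Tbl} {b : Nat} (h : t.allLt b = true) (i : Nat) : t.get i < b := by
  induction t generalizing i with
  | leaf a => exact Nat.le_of_ble_eq_true h
  | node l r hl hr =>
    rw [Tbl.allLt, Bool.and_eq_true] at h
    rw [Tbl.get]
    split
    · exact hl h.1 _
    · exact hr h.2 _

/-- One step of the certificate. Elements of the centraliser are given by their indices. Writing `P i` for
the representative of the `i`th orbit, the conclusion of a step is either `k * P i = P i * h`, or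
`g * c * P i = m * P j * h`, for some `h` in the centraliser. -/
inductive Fact where
  | unit (i k : Nat)
  | zero (k : Nat)
  | mul (i a b k : Nat)
  | coin (j f f' k : Nat)
  | transfer (j f d a k : Nat)
  | tree (i c j : Nat)
  | flip (f d a i c j m : Nat)
  | tri (n q f1 d1 a1 f2 d2 a2 i c j m : Nat)

/-- Whether the conclusion is a stabiliser equation. -/
def Fact.isK : Fact → Bool
  | .unit _ _ | .zero _ | .mul _ _ _ _ | .coin _ _ _ _ | .transfer _ _ _ _ _ => true
  | _ => false

/-- The source orbit of the conclusion. -/
def Fact.src : Fact → Nat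
  | .unit i _ | .mul i _ _ _ | .tree i _ _ | .coin i _ _ _ | .transfer i _ _ _ _ => i
  | .zero _ => 0
  | .flip _ _ _ i _ _ _ | .tri _ _ _ _ _ _ _ _ i _ _ _ => i

/-- The element in the source of the conclusion. -/
def Fact.elt : Fact → Nat
  | .unit _ k | .zero k | .mul _ _ _ k | .coin _ _ _ k | .transfer _ _ _ _ k => k
  | .tree _ c _ => c
  | .flip _ _ _ _ c _ _ | .tri _ _ _ _ _ _ _ _ _ c _ _ => c

/-- The target orbit of the conclusion. -/
def Fact.tgt : Fact → Nat
  | .tree _ _ j | .flip _ _ _ _ _ j _ | .tri _ _ _ _ _ _ _ _ _ _ j _ => j
  | _ => 0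

/-- The element in the target of the conclusion; index zero is the identity. -/
def Fact.out : Fact → Nat
  | .flip _ _ _ _ _ _ m | .tri _ _ _ _ _ _ _ _ _ _ _ m => m
  | _ => 0

end CfsgLib.CoThreeUnique.Bound
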