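import Cfsg.Agent.Lib.CoThreeUnique.Bound.Eval
import Cfsg.Agent.Lib.CoThreeUnique.Bound.DataFacts
import Cfsg.Agent.Lib.CoThreeUnique.Bound.DataCover

/-!
The checks run on the orbit certificate.
-/

set_option autoImplicit false
set_option maxRecDepth 100000

namespace CfsgLib.CoThreeUnique.Bound

/-- The images under the element of order three. -/
def gp (p : ℕ) : ℕ := pimg Data.gMCode p

/-- The images under the conjugate `g * d * g⁻¹`. -/
def phi (d p : ℕ) : ℕ := gp (ev d (gp (gp p)))

/-- The images under the second involution. -/
def sp (p : ℕ) : ℕ := pimg Data.sMCode p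

/-- An index gives an element commuting with the second involution. -/
def inD (d : ℕ) : Bool := eqB (fun p => sp (ev d p)) fun p => ev d (sp p)

/-- The step with an index. -/
def fact (n : ℕ) : Fact := Dat.facts.getD n (.zero 0)

/-- An earlier step gives a stabiliser equation in an orbit. -/
def isKAt (n a i : ℕ) : Bool := Nat.blt a n && (fact a).isK && (fact a).src == i

/-- An earlier step gives an edge equation. -/
def isGAt (n a : ℕ) : Bool := Nat.blt a n && !(fact a).isK

/-- Two equations describe the same edge. -/
def sameEdge (f f' : Fact) : Bool := f.src == f'.src && f.elt == f'.elt && f.tgt == f'.tgt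

/-- The three elements of a triangle identity. -/
def tri (k : ℕ) : ℕ × ℕ × ℕ := Dat.tris.getD k (0, 0, 0)

/-- The check of one step. -/
def stepOK (n : ℕ) : Fact → Bool
  | .unit _ k => k == 0
  | .zero _ => true
  | .mul i a b k => isKAt n a i && isKAt n b i && eqB (ev k) fun p => ev (fact a).elt (ev (fact b).elt p)
  | .coin j f f' k => isGAt n f && isGAt n f' && sameEdge (fact f) (fact f') && (fact f).tgt == j &&
      eqB (fun p => ev (fact f).out (ev k p)) (ev (fact f').out)
  | .transfer j f d a k => isGAt n f && (fact f).tgt == j && isKAt n a (fact f).src && inD d &&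
      eqB (fun p => ev d (ev (fact f).elt p)) (fun p => ev (fact f).elt (ev (fact a).elt p)) &&
      eqB (fun p => phi d (ev (fact f).out p)) fun p => ev (fact f).out (ev k p)
  | .tree i c j => Nat.blt i j && Nat.blt j 7 && Dat.par.getD j (0, 0) == (i, c)
  | .flip f d a i c j m => isGAt n f && (fact f).tgt == i && (fact f).src == j && Nat.blt j 7 && inD d &&
      isKAt n a i &&
      eqB (fun p => ev Dat.flipB (ev (fact f).out p)) (fun p => ev d (ev c (ev (fact a).elt p))) &&
      eqB (fun p => ev Dat.flipA (phi d (ev m p))) (ev (fact f).elt)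
  | .tri k q f1 d1 a1 f2 d2 a2 i c j m => Nat.blt k 2 && inD q && isGAt n f1 && (fact f1).src == i && inD d1 &&
      isKAt n a1 i &&
      eqB (fun p => ev (tri k).2.2 (ev q (ev c p))) (fun p => ev d1 (ev (fact f1).elt (ev (fact a1).elt p))) &&
      isGAt n f2 && (fact f2).src == (fact f1).tgt && inD d2 && isKAt n a2 (fact f1).tgt &&
      eqB (fun p => ev (tri k).2.1 (phi d1 (ev (fact f1).out p)))
        (fun p => ev d2 (ev (fact f2).elt (ev (fact a2).elt p))) &&
      (fact f2).tgt == j && Nat.blt j 7 &&
      eqB (fun p => phi q (ev m p)) fun p => ev (tri k).1 (phi d2 (ev (fact f2).out p))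

/-- The check of all steps. -/
def factsOK : Bool := (List.range Dat.facts.length).all fun n => stepOK n (fact n)

/-- The images under the element of `EM` with given coordinates. -/
def evE (mask p : ℕ) : ℕ :=
  (if mask % 2 == 1 then pimg Data.eE0Code else fun q => q)
    ((if mask / 2 % 2 == 1 then pimg Data.eE1Code else fun q => q)
      ((if mask / 4 % 2 == 1 then pimg Data.eE2Code else fun q => q)
        ((if mask / 8 % 2 == 1 then pimg Data.eE3Code else fun q => q) p)))

/-- An element conjugates the four generators of `EM` into `EM`. -/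
def normE (h : ℕ) : Bool :=
  [Data.eE0Code, Data.eE1Code, Data.eE2Code, Data.eE3Code].all fun e =>
    (List.range 16).any fun mask => eqB (fun p => ev h (pimg e p)) fun p => evE mask (ev h p)

/-- The check of the identities in the normaliser. -/
def identOK : Bool :=
  ([Dat.flipA, Dat.flipB] ++ Dat.tris.flatMap fun x => [x.1, x.2.1, x.2.2]).all normE &&
    Dat.tris.all (fun x => eqAll gp fun p => ev x.1 (gp (ev x.2.1 (gp (ev x.2.2 p))))) &&
    eqAll (fun p => gp (gp p)) (fun p => ev Dat.flipA (gp (ev Dat.flipB p))) &&
    [Data.eE0Code, Data.eE1Code, Data.eE2Code, Data.eE3Code].all fun e =>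
      eqAll (fun p => pimg Data.tMCode (pimg e p)) fun p => pimg e (pimg Data.tMCode p)

/-- A coset representative. -/
def rp (p : ℕ) : ℕ := Dat.reps.get p

/-- The code of a generator. -/
def xcode (k : ℕ) : ℕ := code (k + 1)

/-- The representatives are closed under the generators. -/
def movesOK : Bool :=
  rp 0 == 0 && (List.range 630).all fun p => (List.range 7).all fun k =>
    let w := (Dat.moves.getD p []).getD k 0
    Nat.blt (w % 1024) 630 && inD (w / 1024) &&
      eqB (fun x => ev (rp p) (pimg (xcode k) x)) fun x => ev (w / 1024) (ev (rp (w % 1024)) x)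

/-- The check of one entry of a forest. -/
def entryOK (i : ℕ) (F : List ℕ) (n e : ℕ) : Bool :=
  let f := e / 2097152 % 1024
  let d := e / 2147483648
  Nat.blt f Dat.facts.length && inD d &&
    if e / 1024 % 2 == 0 then
      !(fact f).isK && (fact f).src == i && eqB (ev (rp (e % 1024))) fun x => ev d (ev (fact f).elt x)
    else
      Nat.blt (e / 2048 % 1024) n && (fact f).isK && (fact f).src == i &&
        eqB (ev (rp (e % 1024))) fun x => ev d (ev (rp (F.getD (e / 2048 % 1024) 0 % 1024)) (ev (fact f).elt x))

/-- The check of a forest. -/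
def forestOK (i : ℕ) (F : List ℕ) : Bool :=
  ((List.range F.length).all fun n => entryOK i F n (F.getD n 0)) &&
    (List.range 630).all fun p => F.any fun e => e % 1024 == p

/-- The images under the representative of an orbit, computed with fuel. -/
def evP : ℕ → ℕ → ℕ → ℕ
  | 0, _, p => p
  | f + 1, j, p => if j == 0 then p else gp (ev (Dat.par.getD j (0, 0)).2 (evP f (Dat.par.getD j (0, 0)).1 p))

/-- The check that only the first representative commutes with the central involution, and that the three
generators of the group lie in the orbits. -/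
def globalOK : Bool :=
  ((List.range 6).all fun i => !(eqAll (fun p => pimg Data.tMCode (evP (i + 1) (i + 1) p))
      fun p => evP (i + 1) (i + 1) (pimg Data.tMCode p))) &&
    (List.range 3).all fun k =>
      let w := Dat.bigWit.getD k (0, 0, 0)
      Nat.blt w.2.1 7 && eqAll (pimg ([Data.pA, Data.pB, Data.pZ].getD k 0))
        fun p => ev w.1 (evP w.2.1 w.2.1 (ev w.2.2 p))

/-- Step zero gives the tree edge out of the base orbit. -/
def baseEdgeOK : Bool :=
  (List.range Dat.facts.length).any fun n =>
    !(fact n).isK && (fact n).src == 0 && (fact n).elt == 0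

end CfsgLib.CoThreeUnique.Bound
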