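import Cfsg.Agent.Lib.CoThreeUnique.Bound.Check

/-!
Kernel evaluation of parts of the orbit certificate.
-/

set_option autoImplicit false
set_option maxRecDepth 100000

namespace CfsgLib.CoThreeUnique.Bound

theorem forest4_ok : forestOK 4 Dat.forest4 = true := by decide +kernel

theorem forest5_ok : forestOK 5 Dat.forest5 = true := by decide +kernel

theorem forest6_ok : forestOK 6 Dat.forest6 = true := by decide +kernel

end CfsgLib.CoThreeUnique.Bound
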