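import Cfsg.Agent.Lib.CoThreeUnique.Spec
import Cfsg.Agent.Lib.CoThreeUnique.Bound.DataNodes

/-!
Elements of the involution centraliser in the third Conway group by index in a transversal chain, and the
test of equations between them on four points.
-/

set_option autoImplicit false
set_option maxRecDepth 100000

namespace CfsgLib.CoThreeUnique.Bound

open CfsgLib.Sporadic.Conway.ThreeOut (GT finite_GT)

/-- `f` gives the images of the pairs under `x`. -/
def Ev (x : GT) (f : ℕ → ℕ) : Prop := ∀ p : Fin 276, (rho x p : ℕ) = f p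

theorem Ev.one : Ev 1 fun p => p := fun p => by rw [map_one]; rfl

theorem Ev.mul {x y : GT} {f g : ℕ → ℕ} (hx : Ev x f) (hy : Ev y g) : Ev (x * y) fun p => f (g p) :=
  fun p => by rw [map_mul, Equiv.Perm.mul_apply, hx, hy]

theorem Ev.ext {x y : GT} {f g : ℕ → ℕ} (hx : Ev x f) (hy : Ev y g)
    (h : ((List.range 276).all fun p => f p == g p) = true) : x = y :=
  eq_of_rho fun p => by
    rw [hx, hy]
    exact beq_iff_eq.1 (List.all_eq_true.1 h p (List.mem_range.2 p.2))

/-- Two functions agree on all pairs. -/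
def eqAll (f g : ℕ → ℕ) : Bool := (List.range 276).all fun p => f p == g p

/-- Two functions agree on the base. -/
def eqB (f g : ℕ → ℕ) : Bool := f 0 == g 0 && f 1 == g 1 && f 2 == g 2 && f 3 == g 3

theorem mem_Cc_iff {x : GT} : x ∈ Cc ↔ tM * x = x * tM := by
  simp [Subgroup.mem_centralizer_iff]

theorem mem_D1_iff {x : GT} : x ∈ D1 ↔ tM * x = x * tM ∧ sM * x = x * sM := by
  simp [Subgroup.mem_centralizer_iff]

/-! ### Nodes -/

/-- The code of a node. -/
def code (n : ℕ) : ℕ := Dat.codes.get n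

/-- The check that the first eight nodes are the identity and the generators. -/
def genOK : Bool :=
  eqAll (pimg (code 0)) (fun p => p) && code 1 == Data.x0Code && code 2 == Data.x1Code && code 3 == Data.x2Code
    && code 4 == Data.x3Code && code 5 == Data.x4Code && code 6 == Data.x5Code && code 7 == Data.x6Code

/-- The check that the other nodes are products. -/
def prodOK : Bool :=
  (List.range 424).all fun n => Nat.blt n 8 ||
    (Nat.blt (Dat.parents.get n / 512) n && Nat.blt (Dat.parents.get n % 512) n &&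
      eqAll (pimg (code n)) fun p => pimg (code (Dat.parents.get n / 512)) (pimg (code (Dat.parents.get n % 512)) p))

theorem genOK_true : genOK = true := by decide +kernel

theorem prodOK_true : prodOK = true := by decide +kernel

/-- The subgroup generated by the seven transvection lifts. -/
noncomputable def Gen : Subgroup GT := Subgroup.closure {x0, x1, x2, x3, x4, x5, x6}

/-- The check that the generators commute with the central involution. -/
def centOK : Bool :=
  [Data.x0Code, Data.x1Code, Data.x2Code, Data.x3Code, Data.x4Code, Data.x5Code, Data.x6Code].all fun c =>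
    eqAll (fun p => pimg Data.tMCode (pimg c p)) fun p => pimg c (pimg Data.tMCode p)

theorem centOK_true : centOK = true := by decide +kernel

theorem comm_gen {x : GT} {c : ℕ} (hx : Ev x (pimg c))
    (h : eqAll (fun p => pimg Data.tMCode (pimg c p)) (fun p => pimg c (pimg Data.tMCode p)) = true) :
    x ∈ Cc :=
  mem_Cc_iff.2 (Ev.ext (Ev.mul rho_tM hx) (Ev.mul hx rho_tM) h)

theorem gen_le : Gen ≤ Cc := by
  have h := centOK_true
  simp only [centOK, List.all_cons, List.all_nil, Bool.and_eq_true, Bool.and_true] at h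
  obtain ⟨h0, h1, h2, h3, h4, h5, h6⟩ := h
  rw [Gen, Subgroup.closure_le]
  rintro x (rfl | rfl | rfl | rfl | rfl | rfl | rfl)
  exacts [comm_gen rho_x0 h0, comm_gen rho_x1 h1, comm_gen rho_x2 h2, comm_gen rho_x3 h3, comm_gen rho_x4 h4,
    comm_gen rho_x5 h5, comm_gen rho_x6 h6]

theorem exists_node (n : ℕ) (hn : n < 424) : ∃ x ∈ Gen, Ev x (pimg (code n)) := by
  induction n using Nat.strong_induction_on with
  | _ n ih =>
    by_cases h8 : n < 8
    · have h := genOK_true
      simp only [genOK, Bool.and_eq_true, beq_iff_eq] at h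
      obtain ⟨⟨⟨⟨⟨⟨⟨e0, e1⟩, e2⟩, e3⟩, e4⟩, e5⟩, e6⟩, e7⟩ := h
      interval_cases n
      · refine ⟨1, Gen.one_mem, fun p => ?_⟩
        rw [map_one, Equiv.Perm.one_apply]
        exact (beq_iff_eq.1 (List.all_eq_true.1 e0 p (List.mem_range.2 p.2))).symm
      · exact ⟨x0, Subgroup.subset_closure (by simp), by rw [e1]; exact rho_x0⟩
      · exact ⟨x1, Subgroup.subset_closure (by simp), by rw [e2]; exact rho_x1⟩
      · exact ⟨x2, Subgroup.subset_closure (by simp), by rw [e3]; exact rho_x2⟩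
      · exact ⟨x3, Subgroup.subset_closure (by simp), by rw [e4]; exact rho_x3⟩
      · exact ⟨x4, Subgroup.subset_closure (by simp), by rw [e5]; exact rho_x4⟩
      · exact ⟨x5, Subgroup.subset_closure (by simp), by rw [e6]; exact rho_x5⟩
      · exact ⟨x6, Subgroup.subset_closure (by simp), by rw [e7]; exact rho_x6⟩
    · have h := List.all_eq_true.1 prodOK_true n (List.mem_range.2 hn)
      simp only [Bool.or_eq_true, Bool.and_eq_true] at h
      rcases h with h | ⟨⟨ha, hb⟩, he⟩
      · exact absurd (Nat.le_of_ble_eq_true h) h8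
      · obtain ⟨a, haG, hae⟩ := ih _ (Nat.le_of_ble_eq_true ha) (Nat.lt_trans (Nat.le_of_ble_eq_true ha) hn)
        obtain ⟨b, hbG, hbe⟩ := ih _ (Nat.le_of_ble_eq_true hb) (Nat.lt_trans (Nat.le_of_ble_eq_true hb) hn)
        refine ⟨a * b, mul_mem haG hbG, fun p => ?_⟩
        rw [(hae.mul hbe) p]
        exact (beq_iff_eq.1 (List.all_eq_true.1 he p (List.mem_range.2 p.2))).symm

/-- The element at a node. -/
noncomputable def nd (n : ℕ) : GT := if h : n < 424 then (exists_node n h).choose else 1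

theorem nd_mem (n : ℕ) : nd n ∈ Gen := by
  unfold nd
  split_ifs with h
  · exact (exists_node n h).choose_spec.1
  · exact Gen.one_mem

theorem ev_nd {n : ℕ} (h : n < 424) : Ev (nd n) (pimg (code n)) := by
  rw [nd, dif_pos h]
  exact (exists_node n h).choose_spec.2

/-! ### Indices -/

/-- The images under the element with an index. -/
def ev (n p : ℕ) : ℕ :=
  pimg (code (Dat.lvl0.get (n / 12096))) (pimg (code (Dat.lvl1.get (n / 96 % 126)))
    (pimg (code (Dat.lvl2.get (n / 2 % 48))) (pimg (code (Dat.lvl3.get (n % 2))) p)))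

theorem below_true : (Dat.lvl0.allLt 424 && Dat.lvl1.allLt 424 && Dat.lvl2.allLt 424 && Dat.lvl3.allLt 424) = true := by
  decide +kernel

/-- The element with an index. -/
noncomputable def el (n : ℕ) : GT :=
  nd (Dat.lvl0.get (n / 12096)) * (nd (Dat.lvl1.get (n / 96 % 126)) *
    (nd (Dat.lvl2.get (n / 2 % 48)) * nd (Dat.lvl3.get (n % 2))))

theorem ev_el (n : ℕ) : Ev (el n) (ev n) := by
  have h := below_true
  simp only [Bool.and_eq_true] at h
  obtain ⟨⟨⟨h0, h1⟩, h2⟩, h3⟩ := h
  exact (ev_nd (Tbl.get_lt h0 _)).mul ((ev_nd (Tbl.get_lt h1 _)).mul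
    ((ev_nd (Tbl.get_lt h2 _)).mul (ev_nd (Tbl.get_lt h3 _))))

theorem el_mem_gen (n : ℕ) : el n ∈ Gen :=
  mul_mem (nd_mem _) (mul_mem (nd_mem _) (mul_mem (nd_mem _) (nd_mem _)))

theorem el_mem (n : ℕ) : el n ∈ Cc := gen_le (el_mem_gen n)

/-- A level fixes the earlier base points and moves its own to distinct points. -/
def lvlOK (t : Tbl) (size b : ℕ) : Bool :=
  (List.range size).all fun i => ((List.range b).all fun q => pimg (code (t.get i)) q == q) &&
    (List.range size).all fun j => i == j || !(pimg (code (t.get i)) b == pimg (code (t.get j)) b)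

theorem lvlOK_fix {t : Tbl} {size b : ℕ} (h : lvlOK t size b = true) {i : ℕ} (hi : i < size) {q : ℕ}
    (hq : q < b) : pimg (code (t.get i)) q = q := by
  have := List.all_eq_true.1 h i (List.mem_range.2 hi)
  simp only [Bool.and_eq_true] at this
  exact beq_iff_eq.1 (List.all_eq_true.1 this.1 q (List.mem_range.2 hq))

theorem lvlOK_inj {t : Tbl} {size b : ℕ} (h : lvlOK t size b = true) {i j : ℕ} (hi : i < size) (hj : j < size)
    (e : pimg (code (t.get i)) b = pimg (code (t.get j)) b) : i = j := by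
  have := List.all_eq_true.1 h i (List.mem_range.2 hi)
  simp only [Bool.and_eq_true] at this
  simpa [e] using List.all_eq_true.1 this.2 j (List.mem_range.2 hj)

theorem lvl0_ok : lvlOK Dat.lvl0 240 0 = true := by decide +kernel
theorem lvl1_ok : lvlOK Dat.lvl1 126 1 = true := by decide +kernel
theorem lvl2_ok : lvlOK Dat.lvl2 48 2 = true := by decide +kernel
theorem lvl3_ok : lvlOK Dat.lvl3 2 3 = true := by decide +kernel

theorem index_eq {n m : ℕ} (hn : n < 2903040) (hm : m < 2903040) (h : ∀ q < 4, ev n q = ev m q) : n = m := by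
  have hb := below_true
  simp only [Bool.and_eq_true] at hb
  obtain ⟨⟨⟨b0, b1⟩, b2⟩, b3⟩ := hb
  have inj : ∀ {t : Tbl}, t.allLt 424 = true → ∀ (i : ℕ) {p q : Fin 276},
      pimg (code (t.get i)) p = pimg (code (t.get i)) q → p = q := fun {t} ht i {p q} e => by
    rw [← ev_nd (Tbl.get_lt ht i) p, ← ev_nd (Tbl.get_lt ht i) q] at e
    exact (rho (nd (t.get i))).injective (Fin.ext e)
  have hlt : ∀ {t : Tbl}, t.allLt 424 = true → ∀ (i : ℕ) {p : ℕ}, p < 276 → pimg (code (t.get i)) p < 276 :=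
    fun {t} ht i {p} hp => by rw [← ev_nd (Tbl.get_lt ht i) ⟨p, hp⟩]; exact Fin.isLt _
  have cancel : ∀ {t : Tbl}, t.allLt 424 = true → ∀ (i : ℕ) {p q : ℕ}, p < 276 → q < 276 →
      pimg (code (t.get i)) p = pimg (code (t.get i)) q → p = q := fun {t} ht i {p q} hp hq e =>
    congrArg Fin.val (inj ht i (p := ⟨p, hp⟩) (q := ⟨q, hq⟩) e)
  have f2 : ∀ (i : ℕ), i < 48 → ∀ {q : ℕ}, q < 2 → pimg (code (Dat.lvl2.get i)) q = q :=
    fun i hi {q} hq => lvlOK_fix lvl2_ok hi hq
  have f3 : ∀ (i : ℕ), i < 2 → ∀ {q : ℕ}, q < 3 → pimg (code (Dat.lvl3.get i)) q = q :=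
    fun i hi {q} hq => lvlOK_fix lvl3_ok hi hq
  have a0 : n / 12096 < 240 ∧ m / 12096 < 240 := by omega
  have a1 : n / 96 % 126 < 126 ∧ m / 96 % 126 < 126 := by omega
  have a2 : n / 2 % 48 < 48 ∧ m / 2 % 48 < 48 := by omega
  have a3 : n % 2 < 2 ∧ m % 2 < 2 := by omega
  have e0 := h 0 (by omega)
  simp only [ev] at e0
  rw [f3 _ a3.1 (q := 0) (by omega), f3 _ a3.2 (q := 0) (by omega), f2 _ a2.1 (q := 0) (by omega),
    f2 _ a2.2 (q := 0) (by omega), lvlOK_fix lvl1_ok a1.1 (q := 0) (by omega),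
    lvlOK_fix lvl1_ok a1.2 (q := 0) (by omega)] at e0
  have d0 := lvlOK_inj lvl0_ok a0.1 a0.2 e0
  have e1 := h 1 (by omega)
  simp only [ev] at e1
  rw [← d0, f3 _ a3.1 (q := 1) (by omega), f3 _ a3.2 (q := 1) (by omega), f2 _ a2.1 (q := 1) (by omega),
    f2 _ a2.2 (q := 1) (by omega)] at e1
  have d1 := lvlOK_inj lvl1_ok a1.1 a1.2
    (cancel b0 _ (hlt b1 _ (by omega)) (hlt b1 _ (by omega)) e1)
  have e2 := h 2 (by omega)
  simp only [ev] at e2
  rw [← d0, ← d1, f3 _ a3.1 (q := 2) (by omega), f3 _ a3.2 (q := 2) (by omega)] at e2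
  have d2 := lvlOK_inj lvl2_ok a2.1 a2.2 (cancel b1 _ (hlt b2 _ (by omega)) (hlt b2 _ (by omega))
    (cancel b0 _ (hlt b1 _ (hlt b2 _ (by omega))) (hlt b1 _ (hlt b2 _ (by omega))) e2))
  have e3 := h 3 (by omega)
  simp only [ev] at e3
  rw [← d0, ← d1, ← d2] at e3
  have d3 := lvlOK_inj lvl3_ok a3.1 a3.2 (cancel b2 _ (hlt b3 _ (by omega)) (hlt b3 _ (by omega))
    (cancel b1 _ (hlt b2 _ (hlt b3 _ (by omega))) (hlt b2 _ (hlt b3 _ (by omega)))
    (cancel b0 _ (hlt b1 _ (hlt b2 _ (hlt b3 _ (by omega))))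
      (hlt b1 _ (hlt b2 _ (hlt b3 _ (by omega)))) e3)))
  omega

theorem el_injective : Function.Injective fun n : Fin 2903040 => (⟨el n, el_mem_gen n⟩ : Gen) := by
  intro a b e
  have e' : el a = el b := congrArg Subtype.val e
  refine Fin.ext (index_eq a.2 b.2 fun q hq => ?_)
  rw [← ev_el a ⟨q, by omega⟩, ← ev_el b ⟨q, by omega⟩, e']

theorem gen_eq (hC : Nat.card Cc = 2903040) : Gen = Cc := by
  have := finite_GT
  refine Subgroup.eq_of_le_of_card_ge gen_le ?_
  have h := Nat.card_le_card_of_injective _ el_injective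
  rw [Nat.card_fin] at h
  rw [hC]
  exact h

theorem exists_el (hC : Nat.card Cc = 2903040) {x : GT} (hx : x ∈ Cc) : ∃ n < 2903040, el n = x := by
  have := finite_GT
  have h : Function.Bijective fun n : Fin 2903040 => (⟨el n, el_mem_gen n⟩ : Gen) :=
    el_injective.bijective_of_nat_card_le (by rw [gen_eq hC, hC, Nat.card_fin])
  obtain ⟨n, hn⟩ := h.2 ⟨x, by rw [gen_eq hC]; exact hx⟩
  exact ⟨n, n.2, congrArg Subtype.val hn⟩

/-- Elements of the centraliser with equal images of the four base points are equal. -/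
theorem eq_of_eqB (hC : Nat.card Cc = 2903040) {x y : GT} (hx : x ∈ Cc) (hy : y ∈ Cc) {f g : ℕ → ℕ}
    (hf : Ev x f) (hg : Ev y g) (h : eqB f g = true) : x = y := by
  obtain ⟨n, hn, rfl⟩ := exists_el hC hx
  obtain ⟨m, hm, rfl⟩ := exists_el hC hy
  simp only [eqB, Bool.and_eq_true, beq_iff_eq] at h
  obtain ⟨⟨⟨e0, e1⟩, e2⟩, e3⟩ := h
  rw [index_eq hn hm fun q hq => ?_]
  rw [← ev_el n ⟨q, by omega⟩, ← ev_el m ⟨q, by omega⟩, hf ⟨q, by omega⟩, hg ⟨q, by omega⟩]
  show f q = g q
  interval_cases q <;> assumption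

theorem el_zero : el 0 = 1 := by
  have h : eqAll (ev 0) (fun p => p) = true := by decide +kernel
  exact Ev.ext (ev_el 0) Ev.one h

end CfsgLib.CoThreeUnique.Bound
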