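import Cfsg.Agent.Lib.CoThreeUnique.Bound.Check
import Cfsg.Agent.Lib.CoThreeUnique.Bound.CheckSteps

/-!
The centraliser and normaliser data of an amalgam, lifted to the product with the third Conway group.
-/

set_option autoImplicit false
set_option maxRecDepth 100000

namespace CfsgLib.CoThreeUnique.Bound

open CfsgLib.Sporadic.Conway.ThreeOut (GT gA gB gZ finite_GT)

variable {G : Type*} [Group G] (A : Amalgam G) (hF : ModelFacts)

open Classical in
/-- An element of the centraliser paired with its image. -/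
noncomputable def L (x : GT) : G × GT := if h : x ∈ Cc then (A.θ ⟨x, h⟩, x) else 1

theorem L_apply {x : GT} (h : x ∈ Cc) : L A x = (A.θ ⟨x, h⟩, x) := dif_pos h

theorem L_mul {x y : GT} (hx : x ∈ Cc) (hy : y ∈ Cc) : L A (x * y) = L A x * L A y := by
  rw [L_apply A hx, L_apply A hy, L_apply A (mul_mem hx hy), Prod.mk_mul_mk, ← map_mul]
  rfl

theorem L_one : L A 1 = 1 := by
  rw [L_apply A (one_mem _), show (⟨1, one_mem _⟩ : Cc) = 1 from rfl, map_one]
  rfl

theorem L_inv {x : GT} (hx : x ∈ Cc) : L A x⁻¹ = (L A x)⁻¹ :=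
  eq_inv_of_mul_eq_one_left (by rw [← L_mul A (inv_mem hx) hx, inv_mul_cancel, L_one])

theorem L_snd {x : GT} (hx : x ∈ Cc) : (L A x).2 = x := by rw [L_apply A hx]

/-- The normaliser paired with its image. -/
noncomputable def N : NE →* G × GT := A.ψ.prod NE.subtype

theorem L_eq_N {x : GT} (h : x ∈ Cc) (h' : x ∈ NE) : L A x = N A ⟨x, h'⟩ := by
  rw [L_apply A h, A.agree x h h']
  rfl

/-- The element of order three paired with its image. -/
noncomputable def gU : G × GT := N A ⟨gM, hF.gM_mem⟩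

theorem gU_snd : (gU A hF).2 = gM := rfl

/-- The representative of an orbit, with fuel. -/
noncomputable def repF : ℕ → ℕ → G × GT
  | 0, _ => 1
  | f + 1, j => if j == 0 then 1 else
      gU A hF * L A (el (Dat.par.getD j (0, 0)).2) * repF f (Dat.par.getD j (0, 0)).1

/-- The representative of an orbit. -/
noncomputable def rep (j : ℕ) : G × GT := repF A hF j j

theorem rep_zero : rep A hF 0 = 1 := rfl

theorem rep_tree {i c j : ℕ} (hj : j < 7) (h0 : i < j) (h : Dat.par.getD j (0, 0) = (i, c)) :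
    rep A hF j = gU A hF * L A (el c) * rep A hF i := by
  have : 0 < j := by omega
  interval_cases j <;> simp only [Dat.par, List.getD_cons_succ, List.getD_cons_zero, Prod.mk.injEq] at h <;>
    obtain ⟨rfl, rfl⟩ := h <;> rfl

theorem ev_repF (f j : ℕ) : Ev (repF A hF f j).2 (evP f j) := by
  induction f generalizing j with
  | zero => exact Ev.one
  | succ f ih =>
    rw [repF, show evP (f + 1) j = fun p => if j == 0 then p else
      gp (ev (Dat.par.getD j (0, 0)).2 (evP f (Dat.par.getD j (0, 0)).1 p)) from funext fun p => rfl]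
    by_cases hj : (j == 0) = true
    · simp only [hj, if_true]
      exact Ev.one
    · simp only [hj, Bool.false_eq_true, if_false, Prod.snd_mul, gU_snd, L_snd A (el_mem _)]
      rw [mul_assoc]
      exact Ev.mul rho_gM ((ev_el _).mul (ih _))

/-! ### The four group -/

include hF in
theorem inD_mem {d : ℕ} (h : inD d = true) : el d ∈ D1 := by
  refine mem_D1_iff.2 ⟨mem_Cc_iff.1 (el_mem d), ?_⟩
  exact eq_of_eqB hF.card_Cc (mul_mem hF.sM_mem (el_mem d)) (mul_mem (el_mem d) hF.sM_mem)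
    (Ev.mul rho_sM (ev_el d)) ((ev_el d).mul rho_sM) h

theorem D1_le {x : GT} (h : x ∈ D1) : x ∈ Cc := mem_Cc_iff.2 (mem_D1_iff.1 h).1

include hF in
theorem gM_inv : gM⁻¹ = gM * gM :=
  inv_eq_of_mul_eq_one_right (by rw [← mul_assoc, ← pow_two, ← pow_succ, hF.gM_pow])

include hF in
theorem conj_mem {x : GT} (h : x ∈ D1) : gM * x * gM⁻¹ ∈ D1 := by
  obtain ⟨ht, hs⟩ := mem_D1_iff.1 h
  have h1 : Commute tM (gM * x * gM⁻¹) := by
    have := (show Commute sM x from hs).map (MulAut.conj gM : GT ≃* GT)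
    rwa [MulAut.conj_apply, MulAut.conj_apply, hF.gM_sM] at this
  have h2 : Commute (tM * sM) (gM * x * gM⁻¹) := by
    have := (show Commute tM x from ht).map (MulAut.conj gM : GT ≃* GT)
    rwa [MulAut.conj_apply, MulAut.conj_apply, hF.gM_tM] at this
  refine mem_D1_iff.2 ⟨h1.eq, ?_⟩
  have h3 := (h1.mul_left h2).eq
  rwa [← mul_assoc tM tM sM, show tM * tM = 1 by rw [← pow_two, ← hF.order_tM, pow_orderOf_eq_one], one_mul] at h3

theorem conj_L {x : GT} (h : x ∈ D1) : gU A hF * L A x = L A (gM * x * gM⁻¹) * gU A hF := by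
  have hx := D1_le h
  have hy := D1_le (conj_mem hF h)
  rw [L_apply A hx, L_apply A hy, gU]
  refine Prod.ext ?_ ?_
  · show A.ψ ⟨gM, hF.gM_mem⟩ * A.θ ⟨x, hx⟩ = A.θ ⟨gM * x * gM⁻¹, hy⟩ * A.ψ ⟨gM, hF.gM_mem⟩
    rw [A.conj x hx h hF.gM_mem hy, inv_mul_cancel_right]
  · show gM * x = gM * x * gM⁻¹ * gM
    rw [inv_mul_cancel_right]

include hF in
theorem ev_phi (d : ℕ) : Ev (gM * el d * gM⁻¹) (phi d) := by
  rw [gM_inv hF, mul_assoc]
  show Ev _ fun p => pimg Data.gMCode (ev d (pimg Data.gMCode (pimg Data.gMCode p)))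
  exact Ev.mul rho_gM ((ev_el d).mul (Ev.mul rho_gM rho_gM))

/-! ### The identities in the normaliser -/

theorem evE_ok (mask : ℕ) : ∃ e ∈ EM, Ev e (evE mask) := by
  have step : ∀ {e0 : GT} {c : ℕ}, e0 ∈ EM → Ev e0 (pimg c) → ∀ b : Bool,
      ∃ e ∈ EM, Ev e (if b = true then pimg c else fun q => q) := fun {e0 c} he hev b => by
    cases b
    · exact ⟨1, one_mem _, Ev.one⟩
    · exact ⟨e0, he, hev⟩
  obtain ⟨a0, m0, h0⟩ := step (Subgroup.subset_closure (by simp)) rho_eE0 (mask % 2 == 1)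
  obtain ⟨a1, m1, h1⟩ := step (Subgroup.subset_closure (by simp)) rho_eE1 (mask / 2 % 2 == 1)
  obtain ⟨a2, m2, h2⟩ := step (Subgroup.subset_closure (by simp)) rho_eE2 (mask / 4 % 2 == 1)
  obtain ⟨a3, m3, h3⟩ := step (Subgroup.subset_closure (by simp)) rho_eE3 (mask / 8 % 2 == 1)
  exact ⟨a0 * (a1 * (a2 * a3)), mul_mem m0 (mul_mem m1 (mul_mem m2 m3)), h0.mul (h1.mul (h2.mul h3))⟩

theorem identOK_gen {e : GT} {c : ℕ} (he : Ev e (pimg c))
    (h : eqAll (fun p => pimg Data.tMCode (pimg c p)) (fun p => pimg c (pimg Data.tMCode p)) = true) : e ∈ Cc :=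
  comm_gen he h

theorem EM_le : EM ≤ Cc := by
  have h := identOK_true
  simp only [identOK, Bool.and_eq_true, List.all_cons, List.all_nil, Bool.and_true] at h
  obtain ⟨-, h0, h1, h2, h3⟩ := h
  rw [Subgroup.closure_le]
  rintro x (rfl | rfl | rfl | rfl)
  exacts [identOK_gen rho_eE0 h0, identOK_gen rho_eE1 h1, identOK_gen rho_eE2 h2, identOK_gen rho_eE3 h3]

include hF in
theorem normE_mem {k : ℕ} (h : normE k = true) : el k ∈ NE := by
  simp only [normE, List.all_cons, List.all_nil, Bool.and_eq_true, Bool.and_true] at h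
  have one : ∀ {e : GT} {c : ℕ}, e ∈ EM → Ev e (pimg c) →
      ((List.range 16).any fun mask => eqB (fun p => ev k (pimg c p)) fun p => evE mask (ev k p)) = true →
      el k * e * (el k)⁻¹ ∈ EM := fun {e c} he hev hh => by
    obtain ⟨mask, -, hq⟩ := List.any_eq_true.1 hh
    obtain ⟨e', he', hev'⟩ := evE_ok mask
    rw [eq_of_eqB hF.card_Cc (mul_mem (el_mem k) (EM_le he)) (mul_mem (EM_le he') (el_mem k))
      ((ev_el k).mul hev) (hev'.mul (ev_el k)) hq, mul_inv_cancel_right]
    exact he'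
  obtain ⟨h0, h1, h2, h3⟩ := h
  have hle : EM.map (MulAut.conj (el k)).toMonoidHom ≤ EM := by
    rw [Subgroup.map_le_iff_le_comap, Subgroup.closure_le]
    rintro x (rfl | rfl | rfl | rfl)
    exacts [one (Subgroup.subset_closure (by simp)) rho_eE0 h0, one (Subgroup.subset_closure (by simp)) rho_eE1 h1,
      one (Subgroup.subset_closure (by simp)) rho_eE2 h2, one (Subgroup.subset_closure (by simp)) rho_eE3 h3]
  have := finite_GT
  have heq : EM.map (MulAut.conj (el k)).toMonoidHom = EM := by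
    refine Subgroup.eq_of_le_of_card_ge hle ?_
    exact le_of_eq (Nat.card_congr (Subgroup.equivMapOfInjective EM _ (MulAut.conj (el k)).injective).toEquiv)
  refine Subgroup.mem_normalizer_iff.2 fun x => ⟨fun hx => ?_, fun hx => ?_⟩
  · exact hle (Subgroup.mem_map_of_mem (MulAut.conj (el k)).toMonoidHom hx)
  · rw [← heq] at hx
    obtain ⟨y, hy, hxy⟩ := Subgroup.mem_map.1 hx
    have : y = x := (MulAut.conj (el k)).injective hxy
    exact this ▸ hy

theorem tri_eq {k : ℕ} (hk : k < 2) :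
    L A (el (tri k).1) * gU A hF * L A (el (tri k).2.1) * gU A hF * L A (el (tri k).2.2) = gU A hF := by
  have h := identOK_true
  simp only [identOK, Bool.and_eq_true] at h
  obtain ⟨⟨⟨hn, hq⟩, -⟩, -⟩ := h
  have hmem : tri k ∈ Dat.tris := by
    interval_cases k <;> simp [tri, Dat.tris]
  have hN : ∀ z ∈ [(tri k).1, (tri k).2.1, (tri k).2.2], el z ∈ NE := fun z hz =>
    normE_mem hF (List.all_eq_true.1 hn z (List.mem_append_right _ (List.mem_flatMap.2 ⟨_, hmem, hz⟩)))
  have m1 := hN (tri k).1 (by simp)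
  have m2 := hN (tri k).2.1 (by simp)
  have m3 := hN (tri k).2.2 (by simp)
  rw [L_eq_N A (el_mem _) m1, L_eq_N A (el_mem _) m2, L_eq_N A (el_mem _) m3, gU, ← map_mul, ← map_mul,
    ← map_mul, ← map_mul]
  refine congrArg (N A) (Subtype.ext ?_)
  show el (tri k).1 * gM * el (tri k).2.1 * gM * el (tri k).2.2 = gM
  refine (Ev.ext rho_gM ?_ (List.all_eq_true.1 hq _ hmem)).symm
  simp only [mul_assoc]
  exact (ev_el _).mul (Ev.mul rho_gM ((ev_el _).mul (Ev.mul rho_gM (ev_el _))))

theorem flip_eq : L A (el Dat.flipA) * gU A hF * L A (el Dat.flipB) = gU A hF * gU A hF := by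
  have h := identOK_true
  simp only [identOK, Bool.and_eq_true] at h
  obtain ⟨⟨⟨hn, -⟩, hq⟩, -⟩ := h
  have m1 : el Dat.flipA ∈ NE := normE_mem hF (List.all_eq_true.1 hn _ (by simp))
  have m2 : el Dat.flipB ∈ NE := normE_mem hF (List.all_eq_true.1 hn _ (by simp))
  rw [L_eq_N A (el_mem _) m1, L_eq_N A (el_mem _) m2, gU, ← map_mul, ← map_mul, ← map_mul]
  refine congrArg (N A) (Subtype.ext ?_)
  show el Dat.flipA * gM * el Dat.flipB = gM * gM
  refine (Ev.ext (Ev.mul rho_gM rho_gM) ?_ hq).symm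
  rw [mul_assoc]
  exact (ev_el _).mul (Ev.mul rho_gM (ev_el _))

theorem gU_cube : gU A hF * (gU A hF * gU A hF) = 1 := by
  rw [gU, ← map_mul, ← map_mul, ← map_one (N A)]
  refine congrArg (N A) (Subtype.ext ?_)
  show gM * (gM * gM) = 1
  rw [← gM_inv hF, mul_inv_cancel]

end CfsgLib.CoThreeUnique.Bound
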