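import Cfsg.Agent.Lib.CoThreeUnique.Bound.Sound

/-!
The universal property of the third Conway group for amalgams of the involution centraliser with the
normaliser of the elementary abelian group of order sixteen.
-/

set_option autoImplicit false
set_option maxRecDepth 100000

namespace CfsgLib.CoThreeUnique

namespace Bound

open CfsgLib.Sporadic.Conway.ThreeOut (GT gA gB gZ finite_GT acts_gA acts_gB acts_gZ)

variable {G : Type*} [Group G] (A : Amalgam G) (hF : ModelFacts)

/-- The representative of a coset is reached by the certificate in an orbit. -/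
def CovH (i p : ℕ) : Prop :=
  ∃ d ∈ D1, ∃ (c : GT) (j : ℕ) (m k : GT), GH A hF i c j m ∧ KH A hF i k ∧ el (rp p) = d * c * k

theorem forest_sound {i : ℕ} {F : List ℕ} (h : forestOK i F = true) (p : ℕ) (hp : p < 630) :
    CovH A hF i p := by
  simp only [forestOK, Bool.and_eq_true] at h
  have all : ∀ n, n < F.length → CovH A hF i (F.getD n 0 % 1024) := by
    intro n
    induction n using Nat.strong_induction_on with
    | _ n ih =>
      intro hn
      have he := List.all_eq_true.1 h.1 n (List.mem_range.2 hn)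
      simp only [entryOK, Bool.and_eq_true] at he
      obtain ⟨⟨hf, hd⟩, he⟩ := he
      have hD := inD_mem hF hd
      have hFH := fact_sound A hF _ (Nat.le_of_ble_eq_true hf)
      split at he
      · simp only [Bool.and_eq_true, Bool.not_eq_true', beq_iff_eq] at he
        obtain ⟨⟨hk, hs⟩, hq⟩ := he
        refine ⟨_, hD, _, _, _, 1, hs ▸ hFH.2 hk, KH_one A hF i, ?_⟩
        rw [mul_one]
        exact eq_of_eqB hF.card_Cc (el_mem _) (mul_mem (el_mem _) (el_mem _)) (ev_el _)
          ((ev_el _).mul (ev_el _)) hq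
      · simp only [Bool.and_eq_true, beq_iff_eq] at he
        obtain ⟨⟨⟨ha, hk⟩, hs⟩, hq⟩ := he
        obtain ⟨d, hd', c, j, m, k, hg, hkk, e⟩ :=
          ih _ (Nat.le_of_ble_eq_true ha) (Nat.lt_trans (Nat.le_of_ble_eq_true ha) hn)
        refine ⟨_, mul_mem hD hd', c, j, m, _, hg, KH_mul A hF hkk (hs ▸ hFH.1 hk), ?_⟩
        rw [eq_of_eqB hF.card_Cc (el_mem (rp _)) (mul_mem (el_mem _) (mul_mem (el_mem _) (el_mem _))) (ev_el _)
          ((ev_el _).mul ((ev_el _).mul (ev_el _))) hq, e]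
        simp only [mul_assoc]
  obtain ⟨e, he, hep⟩ := List.any_eq_true.1 (List.all_eq_true.1 h.2 p (List.mem_range.2 hp))
  obtain ⟨n, hn, rfl⟩ := List.mem_iff_getElem.1 he
  have hall := all n hn
  rw [List.getD_eq_getElem _ _ hn, beq_iff_eq.1 hep] at hall
  exact hall

include hF in
theorem exists_coset {x : GT} (hx : x ∈ Cc) : ∃ d ∈ D1, ∃ p < 630, x = d * el (rp p) := by
  have := finite_GT
  have h := movesOK_true
  simp only [movesOK, Bool.and_eq_true, beq_iff_eq] at h
  have hx' : x ∈ Submonoid.closure ({x0, x1, x2, x3, x4, x5, x6} : Set GT) := by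
    rw [← Subgroup.closure_toSubmonoid_of_finite, Subgroup.mem_toSubmonoid]
    show x ∈ Gen
    rw [gen_eq hF.card_Cc]
    exact hx
  clear hx
  induction hx' using Submonoid.closure_induction_right with
  | one => exact ⟨1, one_mem _, 0, by omega, by rw [h.1, el_zero, mul_one]⟩
  | mul_right y _ z hz ih =>
    obtain ⟨d, hd, p, hp, rfl⟩ := ih
    have hk : ∃ k < 7, Ev z (pimg (xcode k)) ∧ z ∈ Cc := by
      have hg := genOK_true
      simp only [genOK, Bool.and_eq_true, beq_iff_eq] at hg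
      obtain ⟨⟨⟨⟨⟨⟨⟨-, e0⟩, e1⟩, e2⟩, e3⟩, e4⟩, e5⟩, e6⟩ := hg
      have hm : z ∈ Cc := gen_le (Subgroup.subset_closure hz)
      rcases hz with rfl | rfl | rfl | rfl | rfl | rfl | rfl
      · exact ⟨0, by omega, by rw [xcode, e0]; exact rho_x0, hm⟩
      · exact ⟨1, by omega, by rw [xcode, e1]; exact rho_x1, hm⟩
      · exact ⟨2, by omega, by rw [xcode, e2]; exact rho_x2, hm⟩
      · exact ⟨3, by omega, by rw [xcode, e3]; exact rho_x3, hm⟩
      · exact ⟨4, by omega, by rw [xcode, e4]; exact rho_x4, hm⟩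
      · exact ⟨5, by omega, by rw [xcode, e5]; exact rho_x5, hm⟩
      · exact ⟨6, by omega, by rw [xcode, e6]; exact rho_x6, hm⟩
    obtain ⟨k, hk7, hev, hzC⟩ := hk
    have hw := List.all_eq_true.1 (List.all_eq_true.1 h.2 p (List.mem_range.2 hp)) k (List.mem_range.2 hk7)
    simp only [Bool.and_eq_true] at hw
    obtain ⟨⟨hq, hd'⟩, he⟩ := hw
    refine ⟨_, mul_mem hd (inD_mem hF hd'), _, Nat.le_of_ble_eq_true hq, ?_⟩
    rw [mul_assoc, eq_of_eqB hF.card_Cc (mul_mem (el_mem _) hzC) (mul_mem (el_mem _) (el_mem _))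
      ((ev_el _).mul hev) ((ev_el _).mul (ev_el _)) he, ← mul_assoc]

/-- The union of the double cosets of the representatives. -/
def Reach (u : G × GT) : Prop :=
  ∃ i < 7, ∃ a ∈ Cc, ∃ b ∈ Cc, u = L A a * rep A hF i * L A b

theorem edge_reach {i : ℕ} (hi : i < 7) {x : GT} (hx : x ∈ Cc) :
    ∃ j < 7, ∃ a ∈ Cc, ∃ b ∈ Cc, gU A hF * L A x * rep A hF i = L A a * rep A hF j * L A b := by
  rcases Nat.eq_zero_or_pos i with rfl | hpos
  · obtain ⟨n, hn, hh⟩ := List.any_eq_true.1 baseEdgeOK_true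
    simp only [Bool.and_eq_true, Bool.not_eq_true', beq_iff_eq] at hh
    obtain ⟨⟨hk, hs⟩, hc⟩ := hh
    have hg := (fact_sound A hF n (List.mem_range.1 hn)).2 hk
    rw [hs, hc, el_zero] at hg
    obtain ⟨hj, -, mm, h, mh, e⟩ := hg
    refine ⟨_, hj, _, mm, h * x, mul_mem mh hx, ?_⟩
    rw [rep_zero, L_one, mul_one, mul_one] at e
    rw [rep_zero, mul_one, L_mul A mh hx, ← mul_assoc, ← e]
  · obtain ⟨d, hd, p, hp, rfl⟩ := exists_coset hF hx
    have hcov : CovH A hF i p := by
      interval_cases i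
      · exact forest_sound A hF forest1_ok p hp
      · exact forest_sound A hF forest2_ok p hp
      · exact forest_sound A hF forest3_ok p hp
      · exact forest_sound A hF forest4_ok p hp
      · exact forest_sound A hF forest5_ok p hp
      · exact forest_sound A hF forest6_ok p hp
    obtain ⟨d', hd', c, j, m, k, hg, hk, e⟩ := hcov
    obtain ⟨hj, -, mm, h, mh, eq⟩ := GH_move A hF hg (mul_mem hd hd') hk
    refine ⟨j, hj, _, mm, h, mh, ?_⟩
    rw [← eq, e]
    simp only [mul_assoc]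

/-- The subgroup of the product generated by the amalgam. -/
noncomputable def U : Subgroup (G × GT) := Subgroup.closure ((L A '' (Cc : Set GT)) ∪ {gU A hF})

theorem reach_of_mem [Finite G] {u : G × GT} (hu : u ∈ U A hF) : Reach A hF u := by
  have := finite_GT
  have hu' : u ∈ Submonoid.closure ((L A '' (Cc : Set GT)) ∪ {gU A hF}) := by
    rw [← Subgroup.closure_toSubmonoid_of_finite]
    exact hu
  clear hu
  induction hu' using Submonoid.closure_induction_left with
  | one => exact ⟨0, by omega, 1, one_mem _, 1, one_mem _, by rw [rep_zero, L_one, one_mul, one_mul]⟩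
  | mul_left z hz v _ ih =>
    obtain ⟨i, hi, a, ha, b, hb, rfl⟩ := ih
    rcases hz with ⟨c, hc, rfl⟩ | rfl
    · exact ⟨i, hi, c * a, mul_mem hc ha, b, hb, by rw [L_mul A hc ha]; simp only [mul_assoc]⟩
    · obtain ⟨j, hj, a', ha', b', hb', e⟩ := edge_reach A hF hi ha
      refine ⟨j, hj, a', ha', b' * b, mul_mem hb' hb, ?_⟩
      rw [L_mul A hb' hb, ← mul_assoc, ← mul_assoc, e]
      simp only [mul_assoc]

theorem L_mem_U {x : GT} (hx : x ∈ Cc) : L A x ∈ U A hF :=
  Subgroup.subset_closure (Or.inl ⟨x, hx, rfl⟩)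

theorem gU_mem_U : gU A hF ∈ U A hF := Subgroup.subset_closure (Or.inr rfl)

theorem repF_mem_U (f j : ℕ) : repF A hF f j ∈ U A hF := by
  induction f generalizing j with
  | zero => exact one_mem _
  | succ f ih =>
    rw [repF]
    split
    · exact one_mem _
    · exact mul_mem (mul_mem (gU_mem_U A hF) (L_mem_U A hF (el_mem _))) (ih _)

theorem rep_snd_not_mem {i : ℕ} (hi : i < 7) (h0 : i ≠ 0) : (rep A hF i).2 ∉ Cc := fun hm => by
  have h := globalOK_true
  simp only [globalOK, Bool.and_eq_true] at h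
  have hh := List.all_eq_true.1 h.1 (i - 1) (List.mem_range.2 (by omega))
  rw [show i - 1 + 1 = i by omega] at hh
  have hev : Ev (rep A hF i).2 (evP i i) := ev_repF A hF i i
  have e := mem_Cc_iff.1 hm
  have : eqAll (fun p => pimg Data.tMCode (evP i i p)) (fun p => evP i i (pimg Data.tMCode p)) = true := by
    refine List.all_eq_true.2 fun p hp => beq_iff_eq.2 ?_
    have h1 := (Ev.mul rho_tM hev) ⟨p, List.mem_range.1 hp⟩
    have h2 := (Ev.mul hev rho_tM) ⟨p, List.mem_range.1 hp⟩
    rw [show tM * (rep A hF i).2 = (rep A hF i).2 * tM from e] at h1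
    exact h1.symm.trans h2
  rw [this] at hh
  exact Bool.noConfusion hh

theorem eq_one_of_snd [Finite G] {u : G × GT} (hu : u ∈ U A hF) (h : u.2 = 1) : u = 1 := by
  obtain ⟨i, hi, a, ha, b, hb, rfl⟩ := reach_of_mem A hF hu
  simp only [Prod.snd_mul, L_snd A ha, L_snd A hb] at h
  have hr : (rep A hF i).2 = a⁻¹ * b⁻¹ := by
    rw [eq_inv_mul_iff_mul_eq, eq_inv_iff_mul_eq_one]
    exact h
  have h0 : i = 0 := by
    by_contra h0
    exact rep_snd_not_mem A hF hi h0 (hr ▸ mul_mem (inv_mem ha) (inv_mem hb))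
  subst h0
  rw [rep_zero] at h ⊢
  simp only [Prod.snd_one, mul_one] at h
  rw [mul_one, ← L_mul A ha hb, h, L_one]

theorem map_U : (U A hF).map (MonoidHom.snd G GT) = ⊤ := by
  rw [← top_le_iff, ← CfsgLib.Sporadic.Conway.ThreeOut.generates, Subgroup.closure_le]
  have h := globalOK_true
  simp only [globalOK, Bool.and_eq_true] at h
  have hw : ∀ (k : ℕ) {z : GT}, k < 3 → Ev z (pimg ([Data.pA, Data.pB, Data.pZ].getD k 0)) →
      z ∈ (U A hF).map (MonoidHom.snd G GT) := fun k z hk hz => by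
    have hh := List.all_eq_true.1 h.2 k (List.mem_range.2 hk)
    simp only [Bool.and_eq_true] at hh
    set w := Dat.bigWit.getD k (0, 0, 0)
    refine ⟨L A (el w.1) * (rep A hF w.2.1 * L A (el w.2.2)), mul_mem (L_mem_U A hF (el_mem _))
      (mul_mem (repF_mem_U A hF _ _) (L_mem_U A hF (el_mem _))), ?_⟩
    show (L A (el w.1) * (rep A hF w.2.1 * L A (el w.2.2))).2 = z
    rw [Prod.snd_mul, Prod.snd_mul, L_snd A (el_mem _), L_snd A (el_mem _)]
    exact (Ev.ext hz ((ev_el _).mul ((ev_repF A hF _ _).mul (ev_el _))) hh.2).symm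
  have hg := good_gens
  simp only [Bool.and_eq_true] at hg
  rintro z (rfl | rfl | rfl)
  exacts [hw 0 (by omega) (rho_apply_of_good acts_gA hg.1.1), hw 1 (by omega) (rho_apply_of_good acts_gB hg.1.2),
    hw 2 (by omega) (rho_apply_of_good acts_gZ hg.2)]

theorem N_mem_U (n : NE) : N A n ∈ U A hF := by
  have hin : ∀ (q : GT) (_ : q ∈ Cc) (hn : q ∈ NE), N A ⟨q, hn⟩ ∈ U A hF := fun q hq hn =>
    L_eq_N A hq hn ▸ L_mem_U A hF hq
  by_cases h : (n : GT) ∈ Cc
  · exact hin _ h n.2
  · have he : (n : GT) * tM * (n : GT)⁻¹ ∈ EM := (Subgroup.mem_normalizer_iff.1 n.2 tM).1 hF.tM_mem_EM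
    have he1 : (n : GT) * tM * (n : GT)⁻¹ ≠ 1 := fun e => by
      have h2 := hF.order_tM
      rw [mul_inv_eq_one, mul_eq_left] at e
      rw [e, orderOf_one] at h2
      omega
    have het : (n : GT) * tM * (n : GT)⁻¹ ≠ tM := fun e => h (mem_Cc_iff.2 (mul_inv_eq_iff_eq_mul.1 e).symm)
    obtain ⟨q, hq, eq⟩ := hF.class_EM _ he he1 het
    let g' : NE := ⟨gM, hF.gM_mem⟩
    let q' : NE := ⟨q, hq.2⟩
    let r : NE := g' * q'⁻¹ * n
    have hr : (r : GT) ∈ Cc := by
      refine mem_Cc_iff.2 (mul_inv_eq_iff_eq_mul.1 ?_).symm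
      show gM * q⁻¹ * n * tM * (gM * q⁻¹ * n)⁻¹ = tM
      calc gM * q⁻¹ * n * tM * (gM * q⁻¹ * n)⁻¹
          = gM * (q⁻¹ * ((n : GT) * tM * (n : GT)⁻¹) * q) * gM⁻¹ := by group
        _ = gM * sM * gM⁻¹ := by rw [← eq]; group
        _ = tM := hF.gM_sM
    have hn : n = q' * g'⁻¹ * r := by
      simp only [r]
      group
    rw [hn, map_mul, map_mul, map_inv]
    exact mul_mem (mul_mem (hin q hq.1 hq.2) (inv_mem (gU_mem_U A hF))) (hin r hr r.2)

end Bound

open CfsgLib.Sporadic.Conway.ThreeOut (GT)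

/-- The orbit certificate bounds the group generated by an amalgam, so the amalgam extends to a homomorphism
from the third Conway group. -/
theorem boundStatement.{u} (hF : ModelFacts) : BoundStatement.{u} := by
  intro G _ _ A
  let p : Bound.U A hF →* GT := (MonoidHom.snd G GT).comp (Bound.U A hF).subtype
  have hinj : Function.Injective p := (injective_iff_map_eq_one p).2 fun u hu =>
    Subtype.ext (Bound.eq_one_of_snd A hF u.2 hu)
  have hsurj : Function.Surjective p := fun z => by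
    obtain ⟨u, hu, rfl⟩ : z ∈ (Bound.U A hF).map (MonoidHom.snd G GT) := by rw [Bound.map_U]; trivial
    exact ⟨⟨u, hu⟩, rfl⟩
  let e := MulEquiv.ofBijective p ⟨hinj, hsurj⟩
  have key : ∀ (v : G × GT), v ∈ Bound.U A hF →
      ((Bound.U A hF).subtype (e.symm v.2)).1 = v.1 := fun v hv => by
    rw [show e.symm v.2 = ⟨v, hv⟩ from e.injective (by rw [MulEquiv.apply_symm_apply]; rfl)]
    rfl
  refine ⟨(MonoidHom.fst G GT).comp ((Bound.U A hF).subtype.comp e.symm.toMonoidHom), fun c => ?_, fun n => ?_⟩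
  · exact key (A.θ c, c) (by rw [← Bound.L_apply A c.2]; exact Bound.L_mem_U A hF c.2)
  · exact key (A.ψ n, n) (Bound.N_mem_U A hF n)

end CfsgLib.CoThreeUnique
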