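import Cfsg.Agent.Lib.CoThreeUnique.Bound.Lift
import Cfsg.Agent.Lib.CoThreeUnique.Bound.CheckMoves
import Cfsg.Agent.Lib.CoThreeUnique.Bound.CheckForestA
import Cfsg.Agent.Lib.CoThreeUnique.Bound.CheckForestB

/-!
The meaning of the steps of the orbit certificate, and the cover of the edges by their conclusions.
-/

set_option autoImplicit false
set_option maxRecDepth 100000

namespace CfsgLib.CoThreeUnique.Bound

open CfsgLib.Sporadic.Conway.ThreeOut (GT finite_GT)

variable {G : Type*} [Group G] (A : Amalgam G) (hF : ModelFacts)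

/-- An element of the centraliser fixes the representative of an orbit up to the centraliser. -/
def KH (i : ℕ) (x : GT) : Prop :=
  x ∈ Cc ∧ ∃ h ∈ Cc, L A x * rep A hF i = rep A hF i * L A h

/-- The edge equation from the orbit `i` at `c` to the orbit `j` at `m`. -/
def GH (i : ℕ) (c : GT) (j : ℕ) (m : GT) : Prop :=
  j < 7 ∧ c ∈ Cc ∧ m ∈ Cc ∧ ∃ h ∈ Cc, gU A hF * L A c * rep A hF i = L A m * rep A hF j * L A h

/-- The meaning of a step. -/
def FH (f : Fact) : Prop :=
  (f.isK = true → KH A hF f.src (el f.elt)) ∧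
    (f.isK = false → GH A hF f.src (el f.elt) f.tgt (el f.out))

theorem KH_one (i : ℕ) : KH A hF i 1 :=
  ⟨one_mem _, 1, one_mem _, by rw [L_one, one_mul, mul_one]⟩

theorem KH_mul {i : ℕ} {x y : GT} (hx : KH A hF i x) (hy : KH A hF i y) : KH A hF i (x * y) := by
  obtain ⟨mx, h, mh, eh⟩ := hx
  obtain ⟨my, h', mh', eh'⟩ := hy
  refine ⟨mul_mem mx my, h * h', mul_mem mh mh', ?_⟩
  rw [L_mul A mx my, mul_assoc, eh', ← mul_assoc, eh, mul_assoc, ← L_mul A mh mh']

theorem GH_move {i j : ℕ} {c m d k : GT} (hg : GH A hF i c j m) (hd : d ∈ D1) (hk : KH A hF i k) :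
    GH A hF i (d * c * k) j (gM * d * gM⁻¹ * m) := by
  obtain ⟨hj, mc, mm, h, mh, e⟩ := hg
  obtain ⟨mk, h', mh', e'⟩ := hk
  have md := D1_le hd
  have mp := D1_le (conj_mem hF hd)
  refine ⟨hj, mul_mem (mul_mem md mc) mk, mul_mem mp mm, h * h', mul_mem mh mh', ?_⟩
  calc gU A hF * L A (d * c * k) * rep A hF i
      = gU A hF * L A d * L A c * (L A k * rep A hF i) := by
        rw [L_mul A (mul_mem md mc) mk, L_mul A md mc]; simp only [mul_assoc]
    _ = L A (gM * d * gM⁻¹) * (gU A hF * L A c * rep A hF i) * L A h' := by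
        rw [e', conj_L A hF hd]; simp only [mul_assoc]
    _ = L A (gM * d * gM⁻¹ * m) * rep A hF j * L A (h * h') := by
        rw [e, L_mul A mp mm, L_mul A mh mh']; simp only [mul_assoc]

theorem kFact {n a i : ℕ} (ih : ∀ b < n, FH A hF (fact b)) (h : isKAt n a i = true) :
    KH A hF i (el (fact a).elt) := by
  simp only [isKAt, Bool.and_eq_true, beq_iff_eq] at h
  exact h.2 ▸ (ih a (Nat.le_of_ble_eq_true h.1.1)).1 h.1.2

theorem gFact {n a : ℕ} (ih : ∀ b < n, FH A hF (fact b)) (h : isGAt n a = true) :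
    GH A hF (fact a).src (el (fact a).elt) (fact a).tgt (el (fact a).out) := by
  simp only [isGAt, Bool.and_eq_true, Bool.not_eq_true'] at h
  exact (ih a (Nat.le_of_ble_eq_true h.1)).2 h.2

theorem step_sound {n : ℕ} {f : Fact} (ih : ∀ b < n, FH A hF (fact b)) (h : stepOK n f = true) :
    FH A hF f := by
  have hC := hF.card_Cc
  cases f with
  | unit i k =>
    refine ⟨fun _ => ?_, fun e => Bool.noConfusion e⟩
    simp only [stepOK, beq_iff_eq] at h
    show KH A hF i (el k)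
    rw [h, el_zero]
    exact KH_one A hF i
  | zero k =>
    refine ⟨fun _ => ⟨el_mem k, el k, el_mem k, ?_⟩, fun e => Bool.noConfusion e⟩
    show L A (el k) * rep A hF 0 = rep A hF 0 * L A (el k)
    rw [rep_zero, one_mul, mul_one]
  | mul i a b k =>
    refine ⟨fun _ => ?_, fun e => Bool.noConfusion e⟩
    simp only [stepOK, Bool.and_eq_true] at h
    obtain ⟨⟨ha, hb⟩, he⟩ := h
    show KH A hF i (el k)
    rw [eq_of_eqB hC (el_mem k) (mul_mem (el_mem _) (el_mem _)) (ev_el k) ((ev_el _).mul (ev_el _)) he]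
    exact KH_mul A hF (kFact A hF ih ha) (kFact A hF ih hb)
  | coin j f f' k =>
    refine ⟨fun _ => ?_, fun e => Bool.noConfusion e⟩
    simp only [stepOK, sameEdge, Bool.and_eq_true, beq_iff_eq] at h
    obtain ⟨⟨⟨⟨hf, hf'⟩, ⟨hs, hc⟩, ht⟩, hj⟩, he⟩ := h
    have hm := eq_of_eqB hC (mul_mem (el_mem _) (el_mem k)) (el_mem _) ((ev_el _).mul (ev_el k)) (ev_el _) he
    obtain ⟨-, -, mm, x, mx, e1⟩ := gFact A hF ih hf
    obtain ⟨-, -, -, y, my, e2⟩ := gFact A hF ih hf'
    rw [← hs, ← hc, ← ht, e1, ← hm, L_mul A mm (el_mem k)] at e2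
    subst hj
    refine ⟨el_mem k, x * y⁻¹, mul_mem mx (inv_mem my), ?_⟩
    show L A (el k) * rep A hF (fact f).tgt = _
    rw [L_mul A mx (inv_mem my), L_inv A my, ← mul_assoc, eq_mul_inv_iff_mul_eq]
    simp only [mul_assoc] at e2 ⊢
    exact (mul_left_cancel e2).symm
  | transfer j f d a k =>
    refine ⟨fun _ => ?_, fun e => Bool.noConfusion e⟩
    simp only [stepOK, Bool.and_eq_true, beq_iff_eq] at h
    obtain ⟨⟨⟨⟨⟨hf, hj⟩, ha⟩, hd⟩, he1⟩, he2⟩ := h
    have hD := inD_mem hF hd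
    have h1 := eq_of_eqB hC (mul_mem (el_mem d) (el_mem _)) (mul_mem (el_mem _) (el_mem _))
      ((ev_el d).mul (ev_el _)) ((ev_el _).mul (ev_el _)) he1
    have h2 := eq_of_eqB hC (mul_mem (D1_le (conj_mem hF hD)) (el_mem _)) (mul_mem (el_mem _) (el_mem k))
      ((ev_phi hF d).mul (ev_el _)) ((ev_el _).mul (ev_el k)) he2
    have hg := gFact A hF ih hf
    obtain ⟨mK, x, mx, eK⟩ := kFact A hF ih ha
    obtain ⟨-, mc, mm, y, my, eG⟩ := hg
    subst hj
    refine ⟨el_mem k, y * x * y⁻¹, mul_mem (mul_mem my mx) (inv_mem my), ?_⟩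
    show L A (el k) * rep A hF (fact f).tgt = _
    have key : L A (el (fact f).out) * (L A (el k) * rep A hF (fact f).tgt * L A y) =
        L A (el (fact f).out) * (rep A hF (fact f).tgt * (L A y * L A x)) := by
      rw [← mul_assoc, ← mul_assoc, ← L_mul A mm (el_mem k), ← h2, L_mul A (D1_le (conj_mem hF hD)) mm,
        mul_assoc _ _ (rep A hF _), mul_assoc, ← eG, mul_assoc (gU A hF), ← mul_assoc, ← conj_L A hF hD,
        mul_assoc, ← mul_assoc (L A (el d)), ← L_mul A (el_mem d) mc, h1, L_mul A mc mK, mul_assoc, eK,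
        ← mul_assoc, ← mul_assoc, eG]
      simp only [mul_assoc]
    rw [L_mul A (mul_mem my mx) (inv_mem my), L_inv A my, L_mul A my mx, ← mul_assoc, eq_mul_inv_iff_mul_eq]
    exact mul_left_cancel key
  | tree i c j =>
    refine ⟨fun e => Bool.noConfusion e, fun _ => ?_⟩
    simp only [stepOK, Bool.and_eq_true, beq_iff_eq] at h
    obtain ⟨⟨hij, hj⟩, hp⟩ := h
    refine ⟨Nat.le_of_ble_eq_true hj, el_mem c, el_mem 0, 1, one_mem _, ?_⟩
    show gU A hF * L A (el c) * rep A hF i = L A (el 0) * rep A hF j * L A 1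
    rw [el_zero, L_one, one_mul, mul_one,
      rep_tree A hF (Nat.le_of_ble_eq_true hj) (Nat.le_of_ble_eq_true hij) hp]
  | flip f d a i c j m =>
    refine ⟨fun e => Bool.noConfusion e, fun _ => ?_⟩
    simp only [stepOK, Bool.and_eq_true, beq_iff_eq] at h
    obtain ⟨⟨⟨⟨⟨⟨⟨hf, hi⟩, hj⟩, hj7⟩, hd⟩, ha⟩, he1⟩, he2⟩ := h
    have hD := inD_mem hF hd
    have mp := D1_le (conj_mem hF hD)
    obtain ⟨mK, x, mx, eK⟩ := kFact A hF ih ha
    obtain ⟨-, mc, mm, y, my, eG⟩ := gFact A hF ih hf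
    rw [hi, hj] at eG
    have h1 := eq_of_eqB hC (mul_mem (el_mem _) mm) (mul_mem (el_mem d) (mul_mem (el_mem c) mK))
      ((ev_el _).mul (ev_el _)) ((ev_el d).mul ((ev_el c).mul (ev_el _))) he1
    have h2 := eq_of_eqB hC (mul_mem (el_mem Dat.flipA) (mul_mem mp (el_mem m))) mc
      ((ev_el _).mul ((ev_phi hF d).mul (ev_el m))) (ev_el _) he2
    refine ⟨Nat.le_of_ble_eq_true hj7, el_mem c, el_mem m, y⁻¹ * x⁻¹,
      mul_mem (inv_mem my) (inv_mem mx), ?_⟩
    show gU A hF * L A (el c) * rep A hF i = L A (el m) * rep A hF j * L A (y⁻¹ * x⁻¹)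
    have key : L A (el Dat.flipA) * L A (gM * el d * gM⁻¹) *
        (gU A hF * L A (el c) * rep A hF i * (L A x * L A y)) =
        L A (el Dat.flipA) * L A (gM * el d * gM⁻¹) * (L A (el m) * rep A hF j) := by
      calc _ = L A (el Dat.flipA) * (L A (gM * el d * gM⁻¹) * gU A hF) * L A (el c) *
              (rep A hF i * L A x) * L A y := by simp only [mul_assoc]
        _ = L A (el Dat.flipA) * gU A hF * (L A (el d) * (L A (el c) * L A (el (fact a).elt))) *
              rep A hF i * L A y := by rw [← conj_L A hF hD, ← eK]; simp only [mul_assoc]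
        _ = L A (el Dat.flipA) * gU A hF * L A (el Dat.flipB) *
              (L A (el (fact f).out) * rep A hF i * L A y) := by
            rw [← L_mul A (el_mem c) mK, ← L_mul A (el_mem d) (mul_mem (el_mem c) mK), ← h1,
              L_mul A (el_mem _) mm]
            simp only [mul_assoc]
        _ = (gU A hF * (gU A hF * gU A hF)) * (L A (el (fact f).elt) * rep A hF j) := by
            rw [flip_eq, ← eG]; simp only [mul_assoc]
        _ = _ := by
            rw [gU_cube, one_mul, ← h2, L_mul A (el_mem _) (mul_mem mp (el_mem m)), L_mul A mp (el_mem m)]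
            simp only [mul_assoc]
    rw [L_mul A (inv_mem my) (inv_mem mx), L_inv A my, L_inv A mx, ← mul_inv_rev, eq_mul_inv_iff_mul_eq]
    exact mul_left_cancel key
  | tri k q f1 d1 a1 f2 d2 a2 i c j m =>
    refine ⟨fun e => Bool.noConfusion e, fun _ => ?_⟩
    simp only [stepOK, Bool.and_eq_true, beq_iff_eq] at h
    obtain ⟨⟨⟨⟨⟨⟨⟨⟨⟨⟨⟨⟨⟨⟨hk, hq⟩, hf1⟩, hs1⟩, hd1⟩, ha1⟩, he1⟩, hf2⟩, hs2⟩, hd2⟩, ha2⟩, he2⟩, ht2⟩,
      hj7⟩, he3⟩ := h
    have hQ := inD_mem hF hq
    have hD1 := inD_mem hF hd1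
    have hD2 := inD_mem hF hd2
    have hK1 := kFact A hF ih ha1
    have hK2 := kFact A hF ih ha2
    have hG1 := gFact A hF ih hf1
    have hG2 := gFact A hF ih hf2
    rw [hs1] at hG1
    rw [hs2, ht2] at hG2
    have h1 := eq_of_eqB hC (mul_mem (el_mem _) (mul_mem (el_mem q) (el_mem c)))
      (mul_mem (mul_mem (el_mem d1) hG1.2.1) hK1.1) ((ev_el _).mul ((ev_el q).mul (ev_el c)))
      (((ev_el d1).mul (ev_el _)).mul (ev_el _)) he1
    obtain ⟨-, -, -, y1, my1, e1⟩ := GH_move A hF hG1 hD1 hK1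
    rw [← h1] at e1
    have h2 := eq_of_eqB hC (mul_mem (el_mem _) (mul_mem (D1_le (conj_mem hF hD1)) hG1.2.2.1))
      (mul_mem (mul_mem (el_mem d2) hG2.2.1) hK2.1) ((ev_el _).mul ((ev_phi hF d1).mul (ev_el _)))
      (((ev_el d2).mul (ev_el _)).mul (ev_el _)) he2
    obtain ⟨-, -, mm2, y2, my2, e2⟩ := GH_move A hF hG2 hD2 hK2
    rw [← h2] at e2
    have h3 := eq_of_eqB hC (mul_mem (D1_le (conj_mem hF hQ)) (el_mem m)) (mul_mem (el_mem _) mm2)
      ((ev_phi hF q).mul (ev_el m)) ((ev_el _).mul ((ev_phi hF d2).mul (ev_el _))) he3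
    refine ⟨Nat.le_of_ble_eq_true hj7, el_mem c, el_mem m, y2 * y1, mul_mem my2 my1, ?_⟩
    show gU A hF * L A (el c) * rep A hF i = L A (el m) * rep A hF j * L A (y2 * y1)
    refine mul_left_cancel (a := L A (gM * el q * gM⁻¹)) ?_
    calc L A (gM * el q * gM⁻¹) * (gU A hF * L A (el c) * rep A hF i)
        = gU A hF * L A (el q) * L A (el c) * rep A hF i := by
          rw [conj_L A hF hQ]; simp only [mul_assoc]
      _ = L A (el (tri k).1) * gU A hF * L A (el (tri k).2.1) *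
          (gU A hF * L A (el (tri k).2.2 * (el q * el c)) * rep A hF i) := by
          conv_lhs => rw [← tri_eq A hF (Nat.le_of_ble_eq_true hk)]
          rw [L_mul A (el_mem _) (mul_mem (el_mem q) (el_mem c)), L_mul A (el_mem q) (el_mem c)]
          simp only [mul_assoc]
      _ = L A (el (tri k).1) *
          (gU A hF * L A (el (tri k).2.1 * (gM * el d1 * gM⁻¹ * el (fact f1).out)) * rep A hF (fact f1).tgt) *
            L A y1 := by
          rw [e1, L_mul A (el_mem (tri k).2.1) (mul_mem (D1_le (conj_mem hF hD1)) hG1.2.2.1)]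
          simp only [mul_assoc]
      _ = L A (gM * el q * gM⁻¹) * (L A (el m) * rep A hF j * L A (y2 * y1)) := by
          rw [e2, ← mul_assoc (L A (el (tri k).1)), ← mul_assoc (L A (el (tri k).1)), ← L_mul A (el_mem _) mm2,
            ← h3, L_mul A (D1_le (conj_mem hF hQ)) (el_mem m), L_mul A my2 my1]
          simp only [mul_assoc]

theorem fact_sound (n : ℕ) (hn : n < Dat.facts.length) : FH A hF (fact n) := by
  induction n using Nat.strong_induction_on with
  | _ n ih =>
    exact step_sound A hF (fun b hb => ih b hb (hb.trans hn))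
      (List.all_eq_true.1 factsOK_true n (List.mem_range.2 hn))

end CfsgLib.CoThreeUnique.Bound
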